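/-
Project J2S (helper89): groups whose Sylow 2-subgroups are those of `J₂`.  Part 1: the table model `MS` of the
Sylow 2-subgroup.  The element with the binary digits `b₀ … b₆` is `z^b₀ B^b₁ k₁^b₂ k₂^b₃ l₁^b₄ l₂^b₅ τ^b₆`.
-/
import Cfsg.Agent.Spor.J23J2
import Cfsg.Agent.Grp.SylowIn

set_option autoImplicit false
set_option maxRecDepth 100000

namespace CL.J2S

open Subgroup CL.TC CL.J23 Cfsg CL.Grp

noncomputable def MS : MT := ⟨nat_lit 128, nat_lit 7,
  nat_lit 0x7fd3cdfdff3f3eebe2f6efbfdef6f7776fef8f3bfab9b3ffd77c3edbd7e3d3ae3f2d6af3edcf2ff674faf0e39feb1a3df96ff38d7cfd3b36fbc2b66ebddafee7572f6e8d3ff2a993bf567e3ad3c7c3932f3d2962e3cd8faef470f2e0c3df6a1839f15f9b44fffb372ecfa677edbbd6e4d537eeed8b32eb99f37ed578b64bf7a352ac7b657ad3ad4e0dd27cead0a30ef91e35e94fbb047ef93326df86376cb9d2ecc517ae6c8936e389d33e547ab243e783122d796172c38d0e8cd078e2c0834e781c31e13f56d7f9f72f1ea96ff4ebb7ced7b1f66deb872b59f932fdd3746f7b9762d1aa17fd4ab36ccd3b9e64dab06295df122dd92f769778f52b16b94fb46ab5cadfa1d62d6a852f51e912bd52766b738742912b15f942a34c8dba9c60d2a042d55e1029d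11f1e5efbf3270e8d2b75e9b3c6c593b6ece9832248d9727cd170e7ebb72250a853b55a932c4c19ba6cca902204cd1625c90f3e1e7af123069d0b3568b1c2cd8396ac68812640c9523c5072e3e3a702102951b152830c0c98b868c28002444c1421c1fe7d7b472f5f7e3cb9ab878ffe9d5ad9dbf79f0e2c6ee9f3df66d5b07ae5d7a34a98bc70efc9952c9fbb71e0c2866f9d39ee5d3bc62d5b762c99eb068dfa954af99b769d0a247ec9b35e64d1b86ac59722489cb460cf89142e9bb361c082076d9931de3dfa650b576e1cf93a958bf68d7a9152f59b063c4aad72dd62dda258a556a14e91ad50af489728172b51a043842bd529ce1dbae40953660cd97a1489f2856ab112749902345a8d325c60d9aa488516204c95a5408f08162a13234180030529d121befc7953474f5e7c38a1b387eebd1a5cc1f3971e0c2c64f1db6ec5913c64d5a742881f306ecb9124ce1b3161c082474d19aedc39d2454b566c18e13285eab50a7c8172951a043c44b15a6cc1992c449526408c17204e8b1026ca13214180034549119ebcf87163474e5c7830a183e6ad3a1448f193161c082070d96acd831e2454a546810e102e4a9320468b112141800305098e9cb8f06143464c58702081e2a52a3408709112141800305868c98b0e041424448506000e0a1222428301010101010101,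
  nat_lit 0x7654321000000000076543200000000007654310000000000076543000000000076542100000000000765420000000000076541000000000000765400000000007653210000000000076532000000000007653100000000000076530000000000076521000000000000765200000000000076510000000000000765000000000076432100000000000764320000000000076431000000000000764300000000000764210000000000007642000000000000764100000000000007640000000000076321000000000000763200000000000076310000000000000763000000000000762100000000000007620000000000000761000000000000007600000000007543210000000000075432000000000007543100000000000075430000000000075421000000000000754200000000000075410000000000000754000000000007532100000000000075320000000000007531000000000000075300000000000075210000000000000752000000000000075100000000000000750000000000074321000000000000743200000000000074310000000000000743000000000000742100000000000007420000000000000741000000000000007400000000000073210000000000000732000000000000073100000000000000730000000000000721000000000000007200000000000000710000000000000007000000000065432100000000000654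3200000000000654310000000000006543000000000006542100000000000065420000000000006541000000000000065400000000000653210000000000006532000000000000653100000000000006530000000000006521000000000000065200000000000006510000000000000065000000000006432100000000000064320000000000006431000000000000064300000000000064210000000000000642000000000000064100000000000000640000000000006321000000000000063200000000000006310000000000000063000000000000062100000000000000620000000000000061000000000000000600000000000543210000000000005432000000000000543100000000000005430000000000005421000000000000054200000000000005410000000000000054000000000000532100000000000005320000000000000531000000000000005300000000000005210000000000000052000000000000005100000000000000050000000000004321000000000000043200000000000004310000000000000043000000000000042100000000000000420000000000000041000000000000000400000000000003210000000000000032000000000000003100000000000000030000000000000021000000000000000200000000000000010000000000000000,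
  nat_lit 0xfdffefcddbf6ecbd7eedc9d3e6ccf5efcf8d5af4e8b56ecd8952e4c8eddfaf4cd9f2e4ad5ead48d1e2c4e5cf8f0c58f0e0a54e8d0850e0c07cfde3d70e5d3b6ad1bb666c98b05ab17ae54ad429489532746890a03874f1f3260d9a2c5ca1526488901e3868c16284880e182840608080,
  nat_lit 7, nat_lit 127⟩

/-- the embedding into the model `M0` of the centraliser -/
noncomputable def emb (n : ℕ) : ℕ := lk (nat_lit 0x2609818002aab7df39c4bb7983b21cac758f7212294b178071847f018094220016f8f4a0926abd586329cd6b1d81319c82628efa2921003409c1a003bcf857284d3698f2200240ab17eb3b44eb7382f204a90420a01c00402e0280f812ba7606cdd31b0975a9a59e5e0d79a1398a87726d2d770220600f00b71cc099c368b515eaa35ccbc16ca915706e4e89972de01204010019adb47ed7ddd86cafa851cacc740376bf4cc13f7753f107801445800)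
  (nat_lit 11) (nat_lit 2047) (Nat.mod n (nat_lit 128))

theorem c_emb : MS.all (fun n => M0.eqv (emb (MS.inv n)) (M0.inv (emb n)) && MS.all fun m =>
    M0.eqv (emb (MS.mul n m)) (M0.mul (emb n) (emb m)) && (!M0.eqv (emb n) (emb m) || Nat.beq n m)) = true := by
  decide +kernel

theorem sumN_zero {f : ℕ → ℕ} {n : ℕ} (h : ∀ i < n, f i = 0) : sumN f n = 0 := by
  induction n with
  | zero => rfl
  | succ n ih =>
    exact (show sumN f (n + 1) = sumN f n + f n from rfl).trans
      (by rw [ih fun i hi => h i (by omega), h n (by omega)])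

theorem all_iff {p : ℕ → Bool} : MS.all p = true ↔ ∀ n < 128, p n = true := by
  refine ⟨MS.all_spec, fun h => ?_⟩
  show Nat.beq (sumN (fun j => sumN (fun i => frc (0 + j * 128 + i) fun k =>
    Bool.rec (motive := fun _ => ℕ) 1 0 (p k)) 128) 1 + 0) 0 = true
  rw [sumN_zero fun j hj => sumN_zero fun i hi => by rw [frc_eq, h _ (by omega)]]
  rfl

/-- some element satisfies `p` -/
noncomputable def ex (p : ℕ → Bool) : Bool := !MS.all fun n => !p n

theorem ex_iff {p : ℕ → Bool} : ex p = true ↔ ∃ n < 128, p n = true := by
  rw [ex, Bool.not_eq_true', ← Bool.not_eq_true, all_iff]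
  simp

section rep
variable {G G' : Type*} [Group G] [Group G'] {M : MT} {H : Subgroup G} {v : ℕ → G}

theorem rep_md (R : M.Rep H v) (n : ℕ) : v (n % M.N) = v n :=
  (R.eqv _ _).1 (Nat.beq_eq.mpr (Nat.mod_mod _ _))

theorem rep_card (R : M.Rep H v) : Nat.card H = M.N := by
  have hb : Function.Bijective (fun n : Fin M.N => (⟨v n, R.mem n⟩ : H)) := ⟨fun n m e => Fin.ext (by
    have := Nat.eq_of_beq_eq_true ((R.eqv n m).2 (congrArg Subtype.val e))
    rwa [show Nat.mod n M.N = n from Nat.mod_eq_of_lt n.2, show Nat.mod m M.N = m from Nat.mod_eq_of_lt m.2]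
      at this), fun x => by
    obtain ⟨n, hn, e⟩ := R.surj x x.2
    exact ⟨⟨n, hn⟩, Subtype.ext e⟩⟩
  rw [← Nat.card_eq_of_bijective _ hb, Nat.card_eq_fintype_card, Fintype.card_fin]

theorem rep_map (R : M.Rep H v) (f : H →* G') (hf : Function.Injective f) :
    M.Rep f.range fun n => f ⟨v n, R.mem n⟩ :=
  ⟨fun n m => by rw [← map_mul]; exact congrArg f (Subtype.ext (R.mul n m)),
    fun n => by rw [← map_inv]; exact congrArg f (Subtype.ext (R.inv n)),
    by rw [← map_one f]; exact congrArg f (Subtype.ext R.zero),
    fun n m => (R.eqv n m).trans ⟨fun e => congrArg f (Subtype.ext e), fun e => congrArg Subtype.val (hf e)⟩,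
    fun n => ⟨_, rfl⟩, by
      rintro _ ⟨x, rfl⟩
      obtain ⟨n, hn, e⟩ := R.surj x x.2
      exact ⟨n, hn, congrArg f (Subtype.ext e)⟩⟩

theorem rep_iso {H' : Subgroup G'} {v' : ℕ → G'} (R : M.Rep H v) (R' : M.Rep H' v') : Nonempty (H ≃* H') := by
  choose n _ hn using fun x : H => R.surj x x.2
  have e : ∀ a b, v a = v b ↔ v' a = v' b := fun a b => (R.eqv a b).symm.trans (R'.eqv a b)
  let f : H →* H' := MonoidHom.mk' (fun x => ⟨v' (n x), R'.mem _⟩) fun x y => Subtype.ext (by
    show v' (n (x * y)) = v' (n x) * v' (n y)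
    rw [← R'.mul, ← e, R.mul, hn, hn, hn, coe_mul])
  refine ⟨MulEquiv.ofBijective f ⟨fun x y h => Subtype.ext ?_, fun y => ?_⟩⟩
  · rw [← hn x, ← hn y, e]
    exact congrArg Subtype.val h
  · obtain ⟨m, -, hm⟩ := R'.surj y y.2
    exact ⟨⟨v m, R.mem m⟩, Subtype.ext (((e _ _).1 (hn _)).trans hm)⟩

end rep

/-- an identification of the subgroup `S` with the model -/
structure JS (G : Type*) [Group G] where
  S : Subgroup G
  v : ℕ → G
  R : MS.Rep S v

theorem exists_cfg_J2 : ∃ X : Cfg Spor.J2, Nat.card X.H = 1920 := by
  obtain ⟨Q, _, h1, h2, -, -, ⟨e⟩⟩ := CL.J2.cent_z.2.2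
  have := CL.J2.simple_J2
  obtain ⟨g, h3, h4⟩ := CL.Inv.exists_commuting_conj_of_simple (G := Spor.J2) (by rw [CL.J2.card_J2]; norm_num)
    order_z0
  obtain ⟨X, -, -⟩ := (hyp_of order_z0 Q h1 h2 (faithful_of order_z0 Q h1 h2 e h3.eq.symm h4)
    (index_of_a5 e)).exists_cfg h3.eq.symm h4
  exact ⟨X, rep_card X.R⟩

/-- the model inside a configuration -/
noncomputable def ofCfg {G : Type*} [Group G] (X : Cfg G) : JS G where
  S :=
        { carrier := {x | ∃ n, X.v (emb n) = x}
          one_mem' := ⟨0, X.R.zero⟩
          mul_mem' := by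
            rintro _ _ ⟨n, rfl⟩ ⟨m, rfl⟩
            have := MS.all_spec (Bool.and_eq_true_iff.1 (MS.all_spec c_emb _ (Nat.mod_lt n (by decide)))).2 _
              (Nat.mod_lt m (by decide))
            rw [Bool.and_eq_true, X.R.eqv, X.R.mul] at this
            exact ⟨_, this.1.trans (by simp only [emb, MS]; congr 3 <;> exact Nat.mod_mod _ _)⟩
          inv_mem' := by
            rintro _ ⟨n, rfl⟩
            have := (Bool.and_eq_true_iff.1 (MS.all_spec c_emb _ (Nat.mod_lt n (by decide)))).1
            rw [X.R.eqv, X.R.inv] at this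
            exact ⟨_, this.trans (by simp only [emb, MS]; congr 3; exact Nat.mod_mod _ _)⟩ }
  v := fun n => X.v (emb n)
  R := by
    have e : ∀ n, emb (n % MS.N) = emb n := fun n => by simp only [emb, MS]; congr 1; exact Nat.mod_mod _ _
    have h := fun n m => Bool.and_eq_true_iff.1 (MS.all_spec (Bool.and_eq_true_iff.1 (MS.all_spec c_emb _
      (Nat.mod_lt n (by decide)))).2 _ (Nat.mod_lt m (by decide)))
    refine ⟨fun n m => ?_, fun n => ?_, X.R.zero, fun n m => ⟨fun h1 => ?_, fun h1 => ?_⟩, fun n => ⟨n, rfl⟩, ?_⟩
    · have := (h n m).1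
      rw [X.R.eqv, X.R.mul, e, e] at this
      rw [← this]
      have e1 : ∀ k, Nat.mod (k % MS.N) MS.N = Nat.mod k MS.N := fun k => Nat.mod_mod _ _
      simp only [MT.mul, e1]
    · have := (Bool.and_eq_true_iff.1 (MS.all_spec c_emb _ (Nat.mod_lt n (by decide)))).1
      rw [X.R.eqv, X.R.inv, e] at this
      rw [← this]
      simp only [MT.inv]
      congr 3
      exact (Nat.mod_mod _ _).symm
    · rw [← e n, ← e m]
      exact congrArg (fun k => X.v (emb k)) (Nat.eq_of_beq_eq_true h1)
    · have := (h n m).2
      rw [Bool.or_eq_true, Bool.not_eq_true', X.R.eqv_false, e, e] at this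
      exact this.resolve_left (not_not.2 h1)
    · rintro _ ⟨n, rfl⟩
      exact ⟨n % MS.N, Nat.mod_lt n (by decide), by rw [e]⟩

/-- transport along a homomorphism that is injective on `S` -/
def JS.map {G G' : Type*} [Group G] [Group G'] (J : JS G) (f : J.S →* G') (hf : Function.Injective f) : JS G' :=
  ⟨f.range, fun n => f ⟨J.v n, J.R.mem n⟩, rep_map J.R f hf⟩

theorem exists_js {G : Type*} [Group G] (S : Subgroup G) (P : Sylow 2 Spor.J2)
    (e : S ≃* (P : Subgroup Spor.J2)) : ∃ J : JS G, J.S = S := by
  obtain ⟨X, -⟩ := exists_cfg_J2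
  have h1 : Nat.card (ofCfg X).S = 2 ^ 7 := rep_card (ofCfg X).R
  obtain ⟨P', hP⟩ := (IsPGroup.of_card h1).exists_le_sylow
  have h2 : (ofCfg X).S = P' := eq_of_le_of_card_ge hP (by
    rw [h1, P'.card_eq_multiplicity, CL.J2.card_J2]
    decide +kernel)
  let f := (MulEquiv.subgroupCongr h2).trans ((Sylow.equiv P' P).trans e.symm)
  refine ⟨(ofCfg X).map (S.subtype.comp f.toMonoidHom) ((subtype_injective S).comp f.injective), ?_⟩
  show (S.subtype.comp f.toMonoidHom).range = S
  rw [MonoidHom.range_comp, MonoidHom.range_eq_top.2 f.surjective, ← MonoidHom.range_eq_map, range_subtype]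

end CL.J2S
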